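import Cfsg.Agent.Lib.Mouf.Base2
import Cfsg.Agent.Lib.FS.Main

/-!
# Package BR: the root group datum of a Moufang polygon (see `plans/MOUF.md`)
-/

set_option autoImplicit false

namespace CfsgLib.Mouf
open scoped commutatorElement

open CfsgLib.FS

variable {n : ℕ} {X : Type*} {Γ : Pol n X} {P : ℤ → X} {G : Type*} [Group G] [MulAction G X] [Finite G] {p : ℕ}

theorem mou_of_reg (S : Γ.SP G p) (h : ∀ x, Γ.Reg G x) : Γ.Mou G := by
  intro P hP i u hu ne
  have h3 := Γ.three
  obtain ⟨v, hv, f, e⟩ := S.trans_fix (Pol.rev hP (i + 1)) (i := 0) (u := P (i - 1)) (u' := u)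
    (by simpa using Pol.adj' hP (i := i) (j := i - 1) (by ring)) (by simpa using hu)
    (by simpa using hP.ne (i := i - 1) (j := i + 1) (by ring)) (by simpa using ne)
  simp only [zero_add, add_sub_cancel_right, sub_zero] at hv f
  have f' : ∀ k, i ≤ k → k ≤ i + n → v • P k = P k := fun k a b => by
    simpa using f (i + 1 - k) (by omega) (by omega)
  refine ⟨v, Pol.mem_U.2 fun j a b => ?_, e⟩
  exact h (P j) _ _ (hP.adj rfl) (Pol.adj' hP (j := j - 1) (by ring)) (hP.ne (by ring)).symm v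
    (S.mem_V_walk hP (Pol.SP.h1_Vs hv) f' le_rfl (by omega) (by omega) (by omega)) (f' _ (by omega) (by omega))

/-- an element of `V` that lies in the groups `Q (P k)`, `j < k < i + n`, and fixes the path -/
theorem mem_seg_of_Q (S : Γ.SP G p) (h : ∀ x, Γ.Reg G x) (hP : Γ.Apt P) {i j : ℤ} {g : G} (e : i ≤ j + 1 ∧ j < i + n)
    (hg : g ∈ V G (P j) (P (j + 1))) (f : ∀ k, j ≤ k → k ≤ i + n → g • P k = P k)
    (hq : ∀ k, j < k → k < i + n → g ∈ Γ.Q G (P k)) : g ∈ seg (Γ.U G P) i j := by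
  have h3 := Γ.three
  have hM := mou_of_reg S h
  have A : ∀ m : ℕ, ∀ (j : ℤ) (g : G), j + 1 - i = m → j < i + n → g ∈ V G (P j) (P (j + 1)) →
      (∀ k, j ≤ k → k ≤ i + n → g • P k = P k) → (∀ k, j < k → k < i + n → g ∈ Γ.Q G (P k)) →
      g ∈ seg (Γ.U G P) i j := by
    intro m
    induction m with
    | zero =>
      intro j g e1 e2 hg f hq
      rw [S.U_eq_one hP.1 (i := j) (j := i + n) (Pol.mem_U.2 fun k a b => hq k a (by omega)) (by omega)
        (f _ (by omega) le_rfl)]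
      exact one_mem _
    | succ m ih =>
      intro j g e1 e2 hg f hq
      have a1 : Γ.adj (P j) (P (j - 1)) := Pol.adj' hP.1 (by ring)
      have n1 : P (j - 1) ≠ P (j + 1) := hP.1.ne (by ring)
      obtain ⟨u, hu, eu⟩ := hM.left hP.1 (i := j) rfl a1 (w' := g • P (j - 1))
        (by simpa only [V_fix hg] using S.smul g a1) n1 (fun q => n1 (by rwa [← V_fix' hg, smul_left_cancel_iff] at q))
      have f1 : (u⁻¹ * g) • P (j - 1) = P (j - 1) := by rw [mul_smul, ← eu, inv_smul_smul]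
      have q1 : u⁻¹ * g ∈ Γ.Q G (P j) := h (P j) _ _ (hP.1.adj rfl) a1 n1.symm _
        (mul_mem (inv_mem (Pol.Q_le_V' (Pol.U_Q hu (by omega) (by omega)) (hP.1.adj rfl))) hg) f1
      have := ih (j - 1) (u⁻¹ * g) (by omega) (by omega)
        (by rw [sub_add_cancel]; exact Pol.Q_le_V' q1 (Γ.symm a1)) (fun k a b => ?_) (fun k a b => ?_)
      · rw [show g = u * (u⁻¹ * g) by group]
        exact mul_mem (mem_seg hu (by omega) le_rfl) (seg_mono this le_rfl (by omega))
      · by_cases c : k = j - 1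
        · rw [c, f1]
        · rw [mul_smul, f k (by omega) b, Pol.U_fix hP.1 (inv_mem hu) (by omega) (by omega)]
      · by_cases c : k = j
        · rwa [c]
        · exact mul_mem (inv_mem (Pol.U_Q hu (by omega) (by omega))) (hq k (by omega) b)
  exact A (j + 1 - i).toNat j g (by omega) e.2 hg f hq

omit [Finite G] in
theorem br_seg_fix (hP : Γ.W P) {i j k : ℤ} {g : G} (hg : g ∈ seg (Γ.U G P) i j) (e : j ≤ k ∧ k ≤ i + n) :
    g • P k = P k :=
  seg_le (H := MulAction.stabilizer G (P k)) (fun l a b u hu => Pol.U_fix hP hu (by omega) (by omega)) hg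

/-- the root group datum -/
def rd (S : Γ.SP G p) (h : ∀ x, Γ.Reg G x) (hP : Γ.Apt P) : RD n G where
  U := Γ.U G P
  three := Γ.three
  per i := hP.U_eq (by simp)
  ne i := (mou_of_reg S h).U_ne_bot hP.1 i
  comm := by
    intro a b i j _ h2 _ h4 u hu v hv
    have A : ∀ k, j ≤ k → k ≤ i + n → ⁅u, v⁆ ∈ Γ.Q G (P k) := fun k a b => S.comm_U_Q hP.1 hu hv h2 a b h4
    refine mem_seg_of_Q S h hP (by omega) ?_ (fun k a b => ?_) fun k a b => A k (by omega) (by omega)
    · rw [sub_add_cancel]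
      exact Pol.Q_le_V' (A j le_rfl (by omega)) (hP.1.adj (by ring))
    · by_cases c : k ≤ j
      · exact Pol.Q_fix_W hP.1 (A j le_rfl (by omega)) (by omega) (by omega)
      · exact Pol.Q_fix_W hP.1 (A (k - 1) (by omega) (by omega)) (by omega) (by omega)
  disj i u hu hs := S.U_eq_one hP.1 hu (Or.inr rfl) (br_seg_fix hP.1 hs (by omega))
  disj' i u hu hs := S.U_eq_one hP.1 hu (Or.inl rfl) (br_seg_fix hP.1 hs (by omega))
  mu := by
    intro i u hu ne
    obtain ⟨_, p, hp, q, hq, rfl, f⟩ := S.exists_Mu (mou_of_reg S h) hP hu ne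
    refine ⟨p, hp, q, hq, fun j x => ?_⟩
    rw [hP.U_eq (i := 2 * i + n + -1 * j) (k := 2 * i - j - n) ⟨1, by ring⟩]
    refine ⟨fun hx => (S.U_conj_refl f hx rfl).1, fun hx => ?_⟩
    have := (S.U_conj_refl f hx (k := j) (by ring)).2
    rwa [show (p * u * q)⁻¹ * (p * u * q * x * (p * u * q)⁻¹) * (p * u * q) = x by group] at this

variable (S : Γ.SP G p) (h : ∀ x, Γ.Reg G x) (hP : Γ.Apt P)

theorem rd_U (i : ℤ) : (rd S h hP).U i = Γ.U G P i := rfl

theorem rd_seg {i j k : ℤ} (e : j = i + n - 1 ∧ k = j + 1) : seg (rd S h hP).U i j = V G (P j) (P k) := by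
  obtain ⟨e1, rfl⟩ := e
  have h3 := Γ.three
  refine le_antisymm (seg_le fun l a b u hu => ?_) fun g hg => ?_
  · by_cases c : l = j
    · exact Pol.Q_le_V' (Pol.U_Q hu (by omega) (by omega)) (hP.1.adj rfl)
    · exact Pol.Q_le_V (Pol.U_Q hu (by omega) (by omega)) (hP.1.adj rfl)
  · refine mem_seg_of_Q S h hP (by omega) hg (fun k a b => ?_) fun k a b => by omega
    obtain rfl | rfl : k = j ∨ k = j + 1 := by omega
    exacts [V_fix hg, V_fix' hg]

theorem rd_card (i : ℤ) : Nat.card ((rd S h hP).U i) = Γ.val (P i) := by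
  have h3 := Γ.three
  have a1 : Γ.adj (P i) (P (i - 1)) := Pol.adj' hP.1 (by ring)
  have n1 : P (i - 1) ≠ P (i + 1) := hP.1.ne (by ring)
  rw [← S.card_nbr (hP.1.adj (i := i) rfl)]
  refine Nat.card_eq_of_bijective (fun g : Γ.U G P i => ⟨(g : G) • P (i - 1), ?_, fun q => n1 ?_⟩) ⟨?_, ?_⟩
  · simpa only [Pol.U_fix hP.1 g.2 le_rfl (by omega)] using S.smul (g : G) a1
  · rwa [← Pol.U_fix hP.1 g.2 (j := i + 1) (by omega) (by omega), smul_left_cancel_iff] at q
  · intro a b e
    have e' : (a : G) • P (i - 1) = (b : G) • P (i - 1) := congrArg Subtype.val e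
    exact Subtype.ext (inv_mul_eq_one.1 (S.U_eq_one hP.1 (mul_mem (inv_mem b.2) a.2) (Or.inl rfl)
      (by rw [mul_smul, e', inv_smul_smul]))).symm
  · rintro ⟨w, hw, nw⟩
    obtain ⟨g, hg, e⟩ := mou_of_reg S h P hP.1 i w hw nw
    exact ⟨⟨g, hg⟩, Subtype.ext e⟩

theorem rd_pg (i : ℤ) : IsPGroup p ((rd S h hP).U i) := by
  have h3 := Γ.three
  exact (S.pg_Q (P (i + 1))).to_le fun u hu => Pol.U_Q hu (by omega) (by omega)

/-- central elations -/
theorem rd_V {m : ℕ} (hn : n = 2 * m) {i j : ℤ} (e : j = i + m) {z : G} :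
    z ∈ (rd S h hP).V i ↔ z ∈ Γ.K G m (P j) ∧ ∀ u ∈ Γ.U G P i, Commute z u := by
  have h3 := Γ.three
  have hM := mou_of_reg S h
  have hm : ((n / 2 : ℕ) : ℤ) = m := by omega
  rw [RD.mem_V, hm]
  constructor
  · rintro ⟨hz, hc⟩
    refine ⟨Pol.mem_K.2 fun R hR r0 k k0 km => ?_, hc i (by omega) (by omega)⟩
    have A : ∀ k : ℕ, k ≤ m → ∃ g, Commute z g ∧ ∀ l : ℤ, 0 ≤ l → l ≤ k → g • P (j + l) = R l := by
      intro k
      induction k with
      | zero =>
        refine fun _ => ⟨1, Commute.one_right z, fun l a b => ?_⟩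
        obtain rfl : l = 0 := by omega
        simp [r0]
      | succ k ih =>
        intro hk
        obtain ⟨g, cg, fg⟩ := ih (by omega)
        have a1 : Γ.adj (P (j + k)) (P (j + k + 1)) := hP.1.adj rfl
        have n1 : P (j + k + 1) ≠ P (j + k - 1) := (hP.1.ne (by ring)).symm
        have a2 : Γ.adj (P (j + k)) (g⁻¹ • R (k + 1)) := by
          have := S.smul g⁻¹ (hR.adj (i := k) rfl)
          rwa [← fg k (by omega) le_rfl, inv_smul_smul] at this
        have B : ∀ w, Γ.adj (P (j + k)) w → w ≠ P (j + k - 1) → ∃ u, Commute z u ∧ u • P (j + k + 1) = w ∧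
            ∀ l : ℤ, 0 ≤ l → l ≤ k → u • P (j + l) = P (j + l) := by
          intro w hw nw
          obtain ⟨u, hu, e⟩ := hM.right hP.1 (i := j + k - n) ⟨by ring, by ring⟩ a1 hw n1 nw
          exact ⟨u, hc _ (by omega) (by omega) u hu, e, fun l a b => Pol.U_fix hP.1 hu (by omega) (by omega)⟩
        have C : ∃ u, Commute z u ∧ u • P (j + k + 1) = g⁻¹ • R (k + 1) ∧
            ∀ l : ℤ, 0 ≤ l → l ≤ k → u • P (j + l) = P (j + l) := by
          by_cases c : g⁻¹ • R (k + 1) = P (j + k - 1)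
          · have k0 : k = 0 := by
              by_contra k0
              refine hR.ne (i := k - 1) (j := k + 1) (by ring) ?_
              rw [← fg (k - 1) (by omega) (by omega), ← add_sub_assoc, ← c, smul_inv_smul]
            subst k0
            obtain ⟨w, hw, w1, w2⟩ := Γ.thick (P (j + (0 : ℕ))) (P (j + (0 : ℕ) - 1)) (P (j + (0 : ℕ) + 1))
            obtain ⟨u, cu, eu, fu⟩ := B w hw w1
            obtain ⟨v, hv, ev⟩ := hM.left hP.1 (i := j + (0 : ℕ)) rfl hw a2 w2 (c ▸ n1.symm)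
            refine ⟨v * u, (hc _ (by omega) (by omega) v hv).mul_right cu, by rw [mul_smul, eu, ev], fun l a b => ?_⟩
            rw [mul_smul, fu l a b, Pol.U_fix hP.1 hv (by omega) (by omega)]
          · exact B _ a2 c
        obtain ⟨u, cu, eu, fu⟩ := C
        refine ⟨g * u, cg.mul_right cu, fun l a b => ?_⟩
        by_cases c : l = k + 1
        · rw [c, mul_smul, ← add_assoc, eu, smul_inv_smul]
        · rw [mul_smul, fu l a (by omega), fg l a (by omega)]
    obtain ⟨g, cg, fg⟩ := A k.toNat (by omega)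
    exact S.Q_of_comm (Pol.U_Q hz (j := j + k) (by omega) (by omega)) cg (fg k k0 (by omega))
  · rintro ⟨hz, hc⟩
    have hU : ∀ g ∈ Γ.K G m (P j), g ∈ (rd S h hP).U i := fun g hg =>
      Pol.mem_U.2 fun k a b => Pol.K_Q hP.1 hg (by omega) (by omega)
    refine ⟨hU z hz, fun l a b u hu => ?_⟩
    by_cases c : l = i
    · exact hc u (c ▸ hu)
    have k1 := hU _ (S.comm_K hz (Pol.U_fix hP.1 hu (by omega) (by omega)))
    refine commutatorElement_eq_one_iff_commute.1 ?_
    by_cases c' : l < i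
    · exact (rd S h hP).eq_one_left k1 ((rd S h hP).comm_mem hu (hU z hz) ⟨c', by omega, rfl, rfl⟩).2 (by omega)
    · exact (rd S h hP).eq_one_left k1 ((rd S h hP).comm_mem (hU z hz) hu ⟨by omega, by omega, rfl, rfl⟩).1 (by omega)

end CfsgLib.Mouf
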