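import Cfsg.Agent.Lib.Mouf.Br

/-!
# Package BR2: the hypotheses for octagons and hexagons (see `plans/MOUF.md`)
-/

set_option autoImplicit false

namespace CfsgLib.Mouf
open scoped commutatorElement

open CfsgLib.FS

variable {X : Type*} {P : ℤ → X} {G : Type*} [Group G] [MulAction G X] [Finite G] {p : ℕ}

theorem br2_cv {Γ : Pol 8 X} (S : Γ.SP G p) (h : ∀ x, Γ.Reg G x) (hP : Γ.Apt P) (hC : Γ.K G 4 (P 8) ≠ ⊥) {z a : G}
    (hz : z ∈ Γ.K G 4 (P 10)) (cz : ∀ u ∈ Γ.U G P 6, Commute z u) (ha : a ∈ Γ.U G P 1) :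
    ⁅a, z⁆ ∈ Γ.K G 4 (P 8) ∧ ∀ u ∈ Γ.U G P 4, Commute ⁅a, z⁆ u := by
  have hV : z ∈ (rd S h hP).V 6 := (rd_V S h hP (m := 4) rfl (by norm_num)).2 ⟨hz, cz⟩
  have a9 : Γ.adj (P 9) (P 10) := hP.1.adj (by norm_num)
  have f9 : a • P 9 = P 9 := Pol.U_fix hP.1 ha (by norm_num) (by norm_num)
  have c1 : ∀ q ∈ Γ.Q G (P 9), Commute z q := fun q hq => RD.V_comm_seg hV (k := 2) (l := 9)
    (by rw [rd_seg S h hP (k := 10) (by norm_num)]; exact Pol.Q_le_V hq a9) (by norm_num)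
  have c2 : ∀ q ∈ Γ.Q G (P 9), Commute ⁅a, z⁆ q := by
    intro q hq
    have k1 := (c1 _ (S.Q_conj_inv hq f9)).eq
    refine Commute.mul_left ?_ (c1 q hq).inv_left
    show _ = _
    calc a * z * a⁻¹ * q = a * (z * (a⁻¹ * q * a)) * a⁻¹ := by group
      _ = _ := by rw [k1]; group
  refine ⟨S.o_c rfl hP.1 hC (mul_mem ?_ (inv_mem (Pol.K_nbr hz (Γ.symm a9))))
    (S.comm_U_Q hP.1 ha (RD.V_U hV) (by norm_num) le_rfl (by norm_num) (by norm_num)) c2,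
    fun u hu => c2 u (Pol.U_Q hu (by norm_num) (by norm_num))⟩
  exact Pol.K_nbr (S.K_conj hz a) (by simpa only [f9] using S.smul a (Γ.symm a9))

theorem rd_oct {Γ : Pol 8 X} (S : Γ.SP G p) (h : ∀ x, Γ.Reg G x) (hP : Γ.Apt P) (hC : Γ.K G 4 (P 0) ≠ ⊥)
    (h8 : ∀ x y, Γ.adj x y → IsSquare (2 * Γ.val x * Γ.val y)) : (rd S h hP).Oct := by
  have hp : p = 2 := S.o_two (h8 _ _ (hP.1.adj (i := 0) rfl))
  have hK : ∀ j, Even j → Γ.K G 4 (P j) ≠ ⊥ := fun j hj =>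
    S.K_ne_two hP.1 hC (by obtain ⟨t, ht⟩ := hj; omega)
  refine ⟨fun i => hp ▸ rd_pg S h hP i, fun i hi => ?_, fun i j k hi e z hz a ha => ?_, fun i u hu uu v hv => ?_, ?_⟩
  · have a1 : Γ.adj (P (i + 4)) (P (i + 5)) := hP.1.adj (by ring)
    obtain ⟨z, hz, hz', z1⟩ := S.exists_ZK a1 (by norm_num) (hK (i + 4) (hi.add (by decide)))
    intro e
    have : z ∈ (rd S h hP).V i := (rd_V S h hP (m := 4) rfl (by norm_num)).2
      ⟨hz, fun u hu => Pol.Z_comm_Q hz' a1 (Pol.U_Q hu (by omega) (by omega))⟩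
    rw [e] at this
    exact z1 this
  · obtain ⟨t, ht⟩ := hi
    obtain ⟨h1, h2⟩ := (rd_V S h hP (m := 4) rfl (j := i + 4) (by norm_num)).1 hz
    refine (rd_V S h hP (m := 4) rfl (j := k + 4) (by norm_num)).2 ?_
    rcases e with ⟨rfl, rfl⟩ | ⟨rfl, rfl⟩
    · have := br2_cv S h (hP.rev (i + 14)) (z := z) (a := a) (hK _ ⟨t + 3, by omega⟩)
        (by simpa only [show i + 14 - 10 = i + 4 by ring] using h1)
        (by rw [Pol.U_rev, show i + 14 - 6 - (8 : ℕ) = i by omega]; exact h2)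
        (by rw [Pol.U_rev, show i + 14 - 1 - (8 : ℕ) = i + 5 by omega]; exact ha)
      rw [Pol.U_rev, show i + 14 - 4 - (8 : ℕ) = i + 2 by omega] at this
      simpa only [show i + 14 - 8 = i + 2 + 4 by ring] using this
    · have := br2_cv S h (hP.shift (i - 6)) (z := z) (a := a) (hK _ ⟨t + 1, by omega⟩)
        (by simpa only [show 10 + (i - 6) = i + 4 by ring] using h1)
        (by rw [Pol.U_shift, show 6 + (i - 6) = i by omega]; exact h2)
        (by rw [Pol.U_shift, show 1 + (i - 6) = i - 5 by omega]; exact ha)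
      rw [Pol.U_shift, show 4 + (i - 6) = i - 2 by omega] at this
      simpa only [show 8 + (i - 6) = i - 2 + 4 by ring] using this
  · by_cases u1 : u = 1
    · rw [u1]; exact Commute.one_left v
    have a1 : Γ.adj (P i) (P (i + 1)) := hP.1.adj rfl
    have k1 := (S.r1_local hp (P i)).1 _ a1 u (Pol.Q_le_V' (Pol.U_Q hu (by omega) (by omega)) a1)
      (by rw [uu]; exact one_mem _) (fun w hw f => by_contra fun ne => u1 (S.U_left hP.1 hu rfl hw ne f)) v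
      (Pol.Q_le_V' (Pol.U_Q hv (by omega) (by omega)) a1)
    exact commutatorElement_eq_one_iff_commute.1 (S.U_eq_one hP.1
      (mul_mem (mul_mem (mul_mem hu hv) (inv_mem hu)) (inv_mem hv)) (Or.inl rfl)
      (Pol.Q_fix_W hP.1 k1 le_rfl (by omega)))
  · rw [rd_card, rd_card]
    exact h8 _ _ (hP.1.adj (by norm_num))

theorem exists_oct {Γ : Pol 8 X} (S : Γ.SP G p) (h : ∀ x, Γ.Reg G x) (hP : Γ.Apt P)
    (h8 : ∀ x y, Γ.adj x y → IsSquare (2 * Γ.val x * Γ.val y)) :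
    (rd S h hP).Oct ∨ (rd S h (hP.rev 1)).Oct := by
  rcases S.o_cen_or rfl (hP.1.adj (i := 0) (j := 1) (by norm_num)) with c | c
  · exact Or.inl (rd_oct S h hP c h8)
  · exact Or.inr (rd_oct S h (hP.rev 1) (by simpa using c) h8)

theorem rd_hex {Γ : Pol 6 X} (S : Γ.SP G p) (h : ∀ x, Γ.Reg G x) (hP : Γ.Apt P) (hC : Γ.K G 3 (P 1) ≠ ⊥) :
    (rd S h hP).Hex := by
  intro i hi u hu
  have a1 : Γ.adj (P (i + 3)) (P (i + 4)) := hP.1.adj (by ring)
  have k1 := S.h4_U_le_C rfl hP.1 rfl (S.K_ne_two hP.1 hC (by obtain ⟨t, ht⟩ := hi; omega)) hu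
  exact (rd_V S h hP (m := 3) rfl (by norm_num)).2
    ⟨k1, fun v hv => S.h1_C_comm rfl a1 k1 (Pol.Q_le_V (Pol.U_Q hv (by omega) (by omega)) a1)⟩

theorem exists_hex {Γ : Pol 6 X} (S : Γ.SP G p) (h : ∀ x, Γ.Reg G x) (hP : Γ.Apt P) :
    (rd S h hP).Hex ∨ (rd S h (hP.rev 1)).Hex := by
  rcases S.h_cen_or rfl (hP.1.adj (i := 0) (j := 1) (by norm_num)) with c | c
  · exact Or.inr (rd_hex S h (hP.rev 1) (by simpa using c))
  · exact Or.inl (rd_hex S h hP c)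

end CfsgLib.Mouf
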